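import Mathlib
import Groth.Agent.ModDesc.Descent
import Groth.Agent.ConsEngine.Model
import Groth.Agent.LimDesc.Tower

/-!
# Models of a scheme with a finitely presented module over a finitely generated subring
-/

universe u

open CategoryTheory CategoryTheory.Limits AlgebraicGeometry

set_option backward.isDefEq.respectTransparency false
set_option linter.style.haveILetI false

noncomputable section

namespace Groth.Agent.ConsMod

open LimModel LimDesc

/-- A finitely presented scheme with a finitely presented module over the limit comes from a stage. -/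
theorem exists_model_pair_cone {I : Type u} [SmallCategory I] [IsCofiltered I] (D : I ⥤ Scheme.{u})
    [∀ {i j} (f : i ⟶ j), IsAffineHom (D.map f)] [∀ i, CompactSpace (D.obj i)]
    [∀ i, QuasiSeparatedSpace (D.obj i)] (c : Cone D) (hc : IsLimit c) {X : Scheme.{u}} (f : X ⟶ c.pt)
    [LocallyOfFinitePresentation f] [QuasiCompact f] [QuasiSeparated f] (F : X.Modules) [Coh.IsQCoh F]
    (hF : CohB1.IsFP F) :
    ∃ (j : I) (X₀ : Scheme.{u}) (f₀ : X₀ ⟶ D.obj j) (q : X ⟶ X₀) (F₀ : X₀.Modules),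
      LocallyOfFinitePresentation f₀ ∧ QuasiCompact f₀ ∧ QuasiSeparated f₀ ∧ IsPullback q f f₀ (c.π.app j) ∧
        Coh.IsQCoh F₀ ∧ CohB1.IsFP F₀ ∧ Nonempty ((Scheme.Modules.pullback q).obj F₀ ≅ F) := by
  obtain ⟨i, Xi, ai, qi, h1, h2, h3, h4⟩ := LimModel.exists_model D c hc (a := f)
  haveI := h1
  haveI := h2
  haveI := h3
  haveI : CompactSpace Xi := QuasiCompact.compactSpace_of_compactSpace ai
  haveI : QuasiSeparatedSpace Xi := quasiSeparatedSpace_of_quasiSeparated ai
  haveI : CompactSpace ((tower D ai).obj (Over.mk (𝟙 i))) := compactSpace_stage D ai _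
  haveI : QuasiSeparatedSpace ((tower D ai).obj (Over.mk (𝟙 i))) := quasiSeparatedSpace_stage D ai _
  haveI : Coh.IsQCoh (X := (towerCone D ai c h4).pt) F := ‹Coh.IsQCoh F›
  obtain ⟨j, -, G, hG, hGfp, ⟨e⟩⟩ := ModDesc.exists_descend (D := tower D ai) (c := towerCone D ai c h4)
    (F := F) (isLimitTowerCone D ai c h4 hc) hF (i₀ := Over.mk (𝟙 i))
  have hsq := isPullback_stage D ai j
  exact ⟨j.left, stage D ai j, toStage D ai j, proj D ai c h4 j, G,
    MorphismProperty.of_isPullback (P := @LocallyOfFinitePresentation) hsq h1,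
    MorphismProperty.of_isPullback (P := @QuasiCompact) hsq h2,
    MorphismProperty.of_isPullback (P := @QuasiSeparated) hsq h3, isPullback_proj D ai c h4 j, hG, hGfp, ⟨e⟩⟩

/-- A finitely presented scheme with a finitely presented module over `Spec A` comes from a finitely
generated subring. -/
theorem exists_model_pair {A : Type u} [CommRing A] {X : Scheme.{u}} (f : X ⟶ Spec (CommRingCat.of A))
    [LocallyOfFinitePresentation f] [QuasiCompact f] [QuasiSeparated f] (F : X.Modules) [Coh.IsQCoh F]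
    (hF : CohB1.IsFP F) :
    ∃ (A₀ : Subalgebra ℤ A) (_ : A₀.FG) (X₀ : Scheme.{u}) (f₀ : X₀ ⟶ Spec (CommRingCat.of ↥A₀)) (q : X ⟶ X₀)
      (F₀ : X₀.Modules), IsNoetherianRing ↥A₀ ∧ LocallyOfFinitePresentation f₀ ∧ QuasiCompact f₀ ∧ QuasiSeparated f₀ ∧
        IsPullback q f f₀ (Spec.map (CommRingCat.ofHom A₀.val.toRingHom)) ∧ Coh.IsQCoh F₀ ∧ CohB1.IsFP F₀ ∧
        Coh.IsCoh F₀ ∧ Nonempty ((Scheme.Modules.pullback q).obj F₀ ≅ F) := by
  haveI : IsCofiltered (FgSub A)ᵒᵖ := isCofiltered_op_of_isFiltered _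
  haveI : ∀ i : (FgSub A)ᵒᵖ, CompactSpace ((fgDiagram A).obj i) := fun i => inferInstance
  haveI : ∀ i : (FgSub A)ᵒᵖ, QuasiSeparatedSpace ((fgDiagram A).obj i) := fun i => inferInstance
  haveI : @LocallyOfFinitePresentation X (fgCone A).pt f := ‹LocallyOfFinitePresentation f›
  haveI : @QuasiCompact X (fgCone A).pt f := ‹QuasiCompact f›
  haveI : @QuasiSeparated X (fgCone A).pt f := ‹QuasiSeparated f›
  obtain ⟨j, X₀, f₀, q, F₀, h1, h2, h3, h4, h5, h6, h7⟩ :=
    exists_model_pair_cone (fgDiagram A) (fgCone A) (fgIsLimit A) (f : X ⟶ (fgCone A).pt) F hF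
  haveI : IsNoetherianRing ↥(j.unop.1 : Subalgebra ℤ A) := by
    haveI : Algebra.FiniteType ℤ ↥(j.unop.1 : Subalgebra ℤ A) := (Subalgebra.fg_iff_finiteType _).mp j.unop.2
    exact Algebra.FiniteType.isNoetherianRing ℤ _
  exact ⟨j.unop.1, j.unop.2, X₀, f₀, q, F₀, inferInstance, h1, h2, h3, h4, h5, h6,
    ⟨h5, ModDesc.isFT_of_isFP h6⟩, h7⟩

end Groth.Agent.ConsMod
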