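import Mathlib
import Groth.Prelude.Def_EGA4Misc
import Groth.Agent.ConsMod.Model
import Groth.Agent.ConsEngine.Fiber
import Groth.Agent.ConsEngine.IndCons
import Groth.Agent.ModDesc.Func

/-!
# The locus of an (ind-)constructible property of pairs of a scheme and a module
-/

universe u

open CategoryTheory CategoryTheory.Limits AlgebraicGeometry

set_option backward.isDefEq.respectTransparency false
set_option linter.style.haveILetI false

noncomputable section

namespace Groth.Agent.ConsMod

open ConsEngine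

variable {P : ∀ ⦃Y T : Scheme.{u}⦄, (Y ⟶ T) → Y.Modules → Prop}

/-- Membership in the locus is insensitive to change of base. -/
theorem mem_locusMod_iff (hP : ConsProp.IsFieldStableMod P) {X X' S S' : Scheme.{u}} {u : X ⟶ S} {u' : X' ⟶ S'}
    {e : X' ⟶ X} {σ : S' ⟶ S} [LocallyOfFiniteType u] [QuasiCompact u] (h : IsPullback e u' u σ)
    (F : X.Modules) (hF : Coh.IsQCoh F) (hFT : CohB1.IsFT F) (F' : X'.Modules)
    (θ : F' ≅ (Scheme.Modules.pullback e).obj F) (s' : S') :
    s' ∈ ConsProp.locusMod P u' F' ↔ σ s' ∈ ConsProp.locusMod P u F := by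
  haveI : LocallyOfFiniteType (u.fiberToSpecResidueField (σ s')) :=
    MorphismProperty.of_isPullback (P := @LocallyOfFiniteType) (isPullback_fiber u (σ s')) ‹_›
  haveI : QuasiCompact (u.fiberToSpecResidueField (σ s')) :=
    MorphismProperty.of_isPullback (P := @QuasiCompact) (isPullback_fiber u (σ s')) ‹_›
  refine (hP _ _ _ _ (isPullback_fiberBC h s') ((Scheme.Modules.pullback (u.fiberι (σ s'))).obj F) _
    ⟨QC.isQCoh_pullback _ hF, ModDesc.isFT_pullback _ hF hFT⟩ ?_).symm
  exact (Scheme.Modules.pullback (u'.fiberι s')).mapIso θ ≪≫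
    (ModDesc.trIso (u'.fiberι s') e (rfl : u'.fiberι s' ≫ e = u'.fiberι s' ≫ e)).app F ≪≫
    ((ModDesc.trIso (fiberBC h s') (u.fiberι (σ s')) (fiberBC_fiberι h s')).app F).symm

/-- The locus of a base change. -/
theorem locusMod_preimage (hP : ConsProp.IsFieldStableMod P) {X X' S S' : Scheme.{u}} {u : X ⟶ S} {u' : X' ⟶ S'}
    {e : X' ⟶ X} {σ : S' ⟶ S} [LocallyOfFiniteType u] [QuasiCompact u] (h : IsPullback e u' u σ)
    (F : X.Modules) (hF : Coh.IsQCoh F) (hFT : CohB1.IsFT F) (F' : X'.Modules)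
    (θ : F' ≅ (Scheme.Modules.pullback e).obj F) :
    ConsProp.locusMod P u' F' = σ ⁻¹' ConsProp.locusMod P u F :=
  Set.ext fun s' => mem_locusMod_iff hP h F hF hFT F' θ s'

/-- the noetherian case -/
theorem indCons_locusMod_noetherian (hP : ConsProp.IsIndConsMod P) {X S : Scheme.{u}} (u : X ⟶ S)
    [IsNoetherian S] [LocallyOfFiniteType u] [QuasiCompact u] (F : X.Modules) (hF : Coh.IsCoh F) :
    ProCons.IsIndConstructible (ConsProp.locusMod P u F) := by
  refine indCons_of_closed_integral _ fun Z i _ _ hη => ?_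
  have : IsNoetherian Z :=
    { toIsLocallyNoetherian := LocallyOfFiniteType.isLocallyNoetherian i
      toCompactSpace := QuasiCompact.compactSpace_of_compactSpace i }
  have hX : IsPullback (pullback.fst u i) (pullback.snd u i) u i := .of_hasPullback _ _
  have : LocallyOfFiniteType (pullback.snd u i) := MorphismProperty.of_isPullback (P := @LocallyOfFiniteType) hX ‹_›
  have : QuasiCompact (pullback.snd u i) := MorphismProperty.of_isPullback (P := @QuasiCompact) hX ‹_›
  have hcoh : Coh.IsCoh ((Scheme.Modules.pullback (pullback.fst u i)).obj F) :=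
    ⟨QC.isQCoh_pullback _ hF.1, ModDesc.isFT_pullback _ hF.1 hF.2⟩
  rw [← locusMod_preimage hP.1 hX F hF.1 hF.2 _ (Iso.refl _)]
  refine hP.2 _ _ hcoh ?_
  rw [locusMod_preimage hP.1 hX F hF.1 hF.2 _ (Iso.refl _)]
  exact hη

theorem indCons_locusMod_spec (hP : ConsProp.IsIndConsMod P) {A : Type u} [CommRing A] {X : Scheme.{u}}
    (u : X ⟶ Spec (CommRingCat.of A)) [LocallyOfFinitePresentation u] [QuasiCompact u] [QuasiSeparated u]
    (F : X.Modules) [Coh.IsQCoh F] (hF : CohB1.IsFP F) :
    ProCons.IsIndConstructible (ConsProp.locusMod P u F) := by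
  obtain ⟨A₀, -, X₀, f₀, q, F₀, _, _, _, _, hq, hqc, -, hcoh, ⟨θ⟩⟩ := exists_model_pair u F hF
  rw [locusMod_preimage hP.1 hq F₀ hqc hcoh.2 F θ.symm]
  exact indCons_preimage _ (indCons_locusMod_noetherian hP f₀ F₀ hcoh)

theorem indCons_locusMod (hP : ConsProp.IsIndConsMod P) {X S : Scheme.{u}} (u : X ⟶ S)
    [LocallyOfFinitePresentation u] [QuasiCompact u] [QuasiSeparated u] (F : X.Modules) [hFq : Coh.IsQCoh F]
    (hF : CohB1.IsFP F) : ProCons.IsIndConstructible (ConsProp.locusMod P u F) := by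
  refine indCons_of_affine _ fun W hW => ?_
  let ψ : Spec Γ(S, W) ⟶ S := hW.isoSpec.inv ≫ W.ι
  have hX : IsPullback (pullback.fst u ψ) (pullback.snd u ψ) u ψ := .of_hasPullback _ _
  have : LocallyOfFinitePresentation (pullback.snd u ψ) :=
    MorphismProperty.of_isPullback (P := @LocallyOfFinitePresentation) hX ‹_›
  have : QuasiCompact (pullback.snd u ψ) := MorphismProperty.of_isPullback (P := @QuasiCompact) hX ‹_›
  have : QuasiSeparated (pullback.snd u ψ) := MorphismProperty.of_isPullback (P := @QuasiSeparated) hX ‹_›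
  haveI : Coh.IsQCoh ((Scheme.Modules.pullback (pullback.fst u ψ)).obj F) := QC.isQCoh_pullback _ hFq
  have h := indCons_locusMod_spec hP (pullback.snd u ψ) ((Scheme.Modules.pullback (pullback.fst u ψ)).obj F)
    (ModDesc.isFP_pullback _ hFq hF)
  rw [locusMod_preimage hP.1 hX F hFq (ModDesc.isFT_of_isFP hF) _ (Iso.refl _)] at h
  convert indCons_preimage hW.isoSpec.hom h using 1
  ext w
  simp [ψ, ← Scheme.Hom.comp_apply]

theorem isIndConsMod_of_isConsMod (hP : ConsProp.IsConsMod P) : ConsProp.IsIndConsMod P := by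
  refine ⟨hP.1, fun X S u _ _ _ _ F hF hη => (hP.2 u F hF).resolve_right ?_⟩
  rintro ⟨z, hz⟩
  exact interior_subset (((genericPoint_spec S).specializes (Set.mem_univ z)).mem_open isOpen_interior hz) hη

theorem isIndConsMod_not (hP : ConsProp.IsConsMod P) :
    ConsProp.IsIndConsMod (fun Y T g F => ¬ P g F) := by
  refine ⟨?_, fun X S u _ _ _ _ F hF hη => (hP.2 u F hF).resolve_left ?_⟩
  · intro Y Y' T T' g g' e h _ _ _ _ _ _ hY F F' hF θ
    exact not_congr (hP.1 g g' e h hY F F' hF θ)
  · rintro ⟨z, hz⟩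
    have h1 : genericPoint S ∈ ConsProp.locusMod P u F :=
      interior_subset (((genericPoint_spec S).specializes (Set.mem_univ z)).mem_open isOpen_interior hz)
    exact hη h1

theorem isLocallyConstructible_locusMod (hP : ConsProp.IsConsMod P) {X S : Scheme.{u}} (u : X ⟶ S)
    [LocallyOfFinitePresentation u] [QuasiCompact u] [QuasiSeparated u] (F : X.Modules) [Coh.IsQCoh F]
    (hF : CohB1.IsFP F) : Topology.IsLocallyConstructible (ConsProp.locusMod P u F) :=
  isLocallyConstructible_of_indCons (indCons_locusMod (isIndConsMod_of_isConsMod hP) u F hF)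
    (indCons_locusMod (isIndConsMod_not hP) u F hF)

end Groth.Agent.ConsMod
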